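import Groth.Agent.AlgSpD.QsDecent
import Groth.Agent.AlgSpD.DecentPoint
import Groth.Agent.AlgSpD.RelDim
import Groth.Prelude.Def_StCurv2

/-!
# Transcendence degree of a monomorphic point of a space of bounded fibre dimension over a field
-/

universe u

open CategoryTheory CategoryTheory.Limits AlgebraicGeometry Opposite

set_option backward.isDefEq.respectTransparency false
set_option autoImplicit false

namespace Groth.Agent.EssDim85

open Groth.Agent

/-- The residue field of a point of `Spec K` is `K`. -/
theorem surjective_preimage_fromSpecResidueField {K : Type u} [Field K]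
    (x : ↥(Spec (CommRingCat.of K))) :
    Function.Surjective (Spec.preimage ((Spec (CommRingCat.of K)).fromSpecResidueField x)).hom := by
  have h : IsClosedImmersion ((Spec (CommRingCat.of K)).fromSpecResidueField x) := by
    refine IsClosedImmersion.of_isPreimmersion _ ?_
    rw [Scheme.range_fromSpecResidueField]
    have : Subsingleton ↥(Spec (CommRingCat.of K)) := inferInstanceAs (Subsingleton (PrimeSpectrum K))
    exact isClosed_discrete _
  obtain ⟨I, e, he⟩ := IsClosedImmersion.Spec_iff.1 h
  have key : Spec.preimage ((Spec (CommRingCat.of K)).fromSpecResidueField x) =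
      CommRingCat.ofHom (Ideal.Quotient.mk I) ≫ Spec.preimage e.hom := by
    apply Spec.map_injective
    rw [Spec.map_preimage, Spec.map_comp, Spec.map_preimage, he]
  have hiso : IsIso (Spec.preimage e.hom) :=
    ⟨Spec.preimage e.inv, by apply Spec.map_injective; simp, by apply Spec.map_injective; simp⟩
  rw [key, CommRingCat.hom_comp, RingHom.coe_comp]
  exact (ConcreteCategory.bijective_of_isIso (Spec.preimage e.hom)).2.comp Ideal.Quotient.mk_surjective

/-- Transcendence degrees of a composite with a residue field. -/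
theorem trdeg_residueField_le {K : Type u} [Field K] {W : Scheme.{u}} (f : W ⟶ Spec (CommRingCat.of K)) (w : ↥W) :
    letI := (Spec.preimage (W.fromSpecResidueField w ≫ f)).hom.toAlgebra
    Algebra.trdeg K ↥(W.residueField w) ≤ Dual3.resTrdeg f w := by
  let κ := (Spec (CommRingCat.of K)).residueField (f w)
  let j := Spec.preimage ((Spec (CommRingCat.of K)).fromSpecResidueField (f w))
  have hj : Spec.preimage (W.fromSpecResidueField w ≫ f) = j ≫ f.residueFieldMap w := by
    apply Spec.map_injective
    rw [Spec.map_preimage, Spec.map_comp, Spec.map_preimage, Scheme.Hom.SpecMap_residueFieldMap_fromSpecResidueField]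
  rw [hj]
  letI a1 : Algebra K κ := j.hom.toAlgebra
  letI a2 : Algebra κ ↥(W.residueField w) := (f.residueFieldMap w).hom.toAlgebra
  letI a3 : Algebra K ↥(W.residueField w) := (j ≫ f.residueFieldMap w).hom.toAlgebra
  haveI : IsScalarTower K κ ↥(W.residueField w) := IsScalarTower.of_algebraMap_eq' rfl
  haveI : FaithfulSMul K κ := (faithfulSMul_iff_algebraMap_injective _ _).2 (RingHom.injective _)
  haveI : FaithfulSMul κ ↥(W.residueField w) := (faithfulSMul_iff_algebraMap_injective _ _).2 (RingHom.injective _)
  show Algebra.trdeg K ↥(W.residueField w) ≤ Algebra.trdeg κ ↥(W.residueField w)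
  rw [← trdeg_add_eq K κ (A := ↥(W.residueField w))]
  have h0 : Algebra.trdeg K κ = 0 := by
    haveI : Algebra.IsAlgebraic K κ := ⟨fun x => by
      obtain ⟨y, rfl⟩ := surjective_preimage_fromSpecResidueField (f w) x
      exact isAlgebraic_algebraMap y⟩
    exact trdeg_eq_zero
  rw [h0, zero_add]

variable {S : Scheme.{u}} {K : Type u} [Field K] (str : Spec (CommRingCat.of K) ⟶ S)

/-- A monomorphic point of a space of relative dimension `≤ d` over a field has transcendence degree `≤ d`. -/
theorem trdeg_monoPoint_le (X : AlgSp.Space S) (π : X.obj ⟶ (AlgSp.yon S).obj (Over.mk str))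
    (hlft : AlgSp.LocP @LocallyOfFiniteType π) (d : ℕ) (hd : CurvSt.RelDimLE d π)
    (p : AlgSp.FieldPt X.obj) (hm : Mono p.toHom) (θ : p.pt ⟶ Over.mk str)
    (hθ : (AlgSp.yon S).map θ = p.toHom ≫ π) :
    letI := (Spec.preimage θ.left).hom.toAlgebra
    Algebra.trdeg K p.K ≤ (d : Cardinal.{u}) := by
  obtain ⟨W, V, a, b, h, w, ha, hb, hw, hofPt, hdim⟩ := hd (AlgSp.Points.mk p)
  obtain ⟨g, hg⟩ := (AlgSp.yon S).map_surjective b
  have : Etale g.left := (AlgSp.repWith_yon_map_iff _ _).1 (hg ▸ hb)
  have := hlft a b h ha hb hw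
  have hbound : Dual3.resTrdeg (h.left ≫ g.left) w ≤ (d : Cardinal.{u}) := by
    have := AlgSpD.locallyQuasiFinite_of_etale g.left
    rw [AlgSpD.resTrdeg_comp, AlgSpD.resTrdeg_eq_zero_of_lqf g.left, add_zero]
    obtain ⟨n, m, hm', -, -, hnm⟩ := AlgSpD.exists_fibre_dims h.left w
    rw [hnm] at hdim
    rw [hm']
    have hle : n + m ≤ d := by exact_mod_cast hdim
    exact_mod_cast (show m ≤ d by omega)
  obtain ⟨c, -, hc⟩ := AlgSpD.exists_finite_factor_of_chart X p hm a ha w hofPt
  have hcomp : c ≫ θ = Over.homMk (W.left.fromSpecResidueField w) rfl ≫ h ≫ g := by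
    apply (AlgSp.yon S).map_injective
    rw [Functor.map_comp, Functor.map_comp, Functor.map_comp, hθ, hg, ← hw, reassoc_of% hc,
      AlgSp.FieldPt.toHom_ofPt, Category.assoc]
  have hleft : c.left ≫ θ.left = W.left.fromSpecResidueField w ≫ h.left ≫ g.left := by
    have := congrArg CommaMorphism.left hcomp
    simpa using this
  let ψ : CommRingCat.of p.K ⟶ W.left.residueField w := Spec.preimage c.left
  have hα : Spec.preimage θ.left ≫ ψ = Spec.preimage (W.left.fromSpecResidueField w ≫ h.left ≫ g.left) := by
    apply Spec.map_injective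
    rw [Spec.map_comp, Spec.map_preimage, Spec.map_preimage, Spec.map_preimage]
    exact hleft
  letI a1 : Algebra K p.K := (Spec.preimage θ.left).hom.toAlgebra
  letI a2 : Algebra K ↥(W.left.residueField w) :=
    (Spec.preimage (W.left.fromSpecResidueField w ≫ h.left ≫ g.left)).hom.toAlgebra
  let emb : p.K →ₐ[K] ↥(W.left.residueField w) :=
    { ψ.hom with
      commutes' := fun r => by
        show ψ.hom ((Spec.preimage θ.left).hom r) = _
        rw [← RingHom.comp_apply, ← CommRingCat.hom_comp, hα]
        rfl }
  exact (trdeg_le_of_injective emb (ψ.hom.injective)).trans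
    ((trdeg_residueField_le (h.left ≫ g.left) w).trans hbound)

end Groth.Agent.EssDim85
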